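import Mathlib
import Groth.Agent.S11322
import Groth.Agent.Lib.lead.FibreDimBCLocal
import Groth.Agent.Lib.Helper24.CharCyc.Main14484
import Groth.Agent.Lib.Helper24.FibreDim.Main4943

/-!
# Components of preimages under base changes of flat equidimensional morphisms (helper24)
-/

set_option autoImplicit false
set_option linter.style.haveILetI false
universe u
open scoped Cardinal
open AlgebraicGeometry CategoryTheory CategoryTheory.Limits TopologicalSpace Topology
open Groth.Agent.Lib.Helper24 Groth.Agent.Lib.lead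

namespace Groth.Agent.Lib.Helper24.FlatEq

open Groth.Agent.Lib.Helper24.CharCyc

/-- dimension of an irreducible component of a closed subspace via its generic point -/
theorem component_generic {B : Type*} [TopologicalSpace B] [QuasiSober B] [T0Space B]
    {T : Set B} (hT : IsClosed T) (W : Set ↥T) (hW : W ∈ irreducibleComponents ↥T) :
    ∃ w : B, w ∈ T ∧ (∀ t ∈ T, t ⤳ w → t = w) ∧
      topologicalKrullDim ↥W = topologicalKrullDim ↥(closure ({w} : Set B)) := by
  haveI : QuasiSober ↥T := hT.isClosedEmbedding_subtypeVal.quasiSober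
  have hWc : IsClosed W := isClosed_of_mem_irreducibleComponents W hW
  obtain ⟨w, hw⟩ := QuasiSober.sober hW.1 hWc
  refine ⟨w.1, w.2, ?_, ?_⟩
  · intro t ht htw
    have h1 : (⟨t, ht⟩ : ↥T) ⤳ w :=
      (IsInducing.subtypeVal.specializes_iff (x := (⟨t, ht⟩ : ↥T)) (y := w)).mp htw
    have h2 : W ⊆ closure ({(⟨t, ht⟩ : ↥T)} : Set ↥T) := by
      rw [← hw.def]
      exact h1.closure_subset
    have h3 : closure ({(⟨t, ht⟩ : ↥T)} : Set ↥T) ⊆ W :=
      hW.2 isIrreducible_singleton.closure h2
    have h4 : (⟨t, ht⟩ : ↥T) ∈ W := h3 (subset_closure rfl)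
    have h5 : w ⤳ ⟨t, ht⟩ := hw.specializes h4
    have h6 : (⟨t, ht⟩ : ↥T) = w := (h1.antisymm h5).eq
    exact congrArg Subtype.val h6
  · apply le_antisymm
    · have hmem : ∀ x : ↥W, x.1.1 ∈ closure ({w.1} : Set B) := by
        intro x
        have h1 : x.1 ∈ closure ({w} : Set ↥T) := by rw [hw.def]; exact x.2
        have h2 : w ⤳ x.1 := specializes_iff_mem_closure.2 h1
        exact specializes_iff_mem_closure.1 (h2.map continuous_subtype_val)
      let φ : ↥W → ↥(closure ({w.1} : Set B)) := fun x => ⟨x.1.1, hmem x⟩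
      have hφc : Continuous φ :=
        Continuous.subtype_mk (continuous_subtype_val.comp continuous_subtype_val) _
      have hφ : IsInducing φ := by
        refine IsInducing.of_comp hφc continuous_subtype_val ?_
        have h3 : IsInducing (fun x : ↥W => (x.1.1 : B)) :=
          (IsInducing.subtypeVal (t := T)).comp (IsInducing.subtypeVal (t := W))
        exact h3
      exact hφ.topologicalKrullDim_le
    · have hsubT : closure ({w.1} : Set B) ⊆ T :=
        hT.closure_subset_iff.2 (Set.singleton_subset_iff.2 w.2)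
      have hmem : ∀ x : ↥(closure ({w.1} : Set B)), (⟨x.1, hsubT x.2⟩ : ↥T) ∈ W := by
        intro x
        rw [← hw.def, ← specializes_iff_mem_closure]
        exact (IsInducing.subtypeVal.specializes_iff (x := w)
          (y := (⟨x.1, hsubT x.2⟩ : ↥T))).mp (specializes_iff_mem_closure.2 x.2)
      let ψ : ↥(closure ({w.1} : Set B)) → ↥W := fun x => ⟨⟨x.1, hsubT x.2⟩, hmem x⟩
      have hψc : Continuous ψ :=
        Continuous.subtype_mk (Continuous.subtype_mk continuous_subtype_val _) _
      have hψ : IsInducing ψ := by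
        refine IsInducing.of_comp hψc (continuous_subtype_val.comp continuous_subtype_val) ?_
        exact IsInducing.subtypeVal
      exact hψ.topologicalKrullDim_le

theorem main10941 (k : Type u) [Field k]
    {X Y Y' : Scheme.{u}} (qX : X ⟶ Spec (CommRingCat.of k)) (qY : Y ⟶ Spec (CommRingCat.of k))
    (qY' : Y' ⟶ Spec (CommRingCat.of k))
    [LocallyOfFiniteType qX] [QuasiCompact qX] [LocallyOfFiniteType qY] [QuasiCompact qY]
    [LocallyOfFiniteType qY']
    [IrreducibleSpace ↥Y] (f : X ⟶ Y) (hf : f ≫ qY = qX) [Flat f] (n : ℕ)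
    (hX : ∀ Z : Set ↥X, Z ∈ irreducibleComponents ↥X →
      topologicalKrullDim ↥Z = topologicalKrullDim ↥Y + (n : WithBot ℕ∞))
    (g : Y' ⟶ Y)
    (V : Set ↥Y') (hV : IsClosed V) (hVirr : IsIrreducible V)
    (W : Set ↥((pullback.snd f g).base ⁻¹' V))
    (hW : W ∈ irreducibleComponents ↥((pullback.snd f g).base ⁻¹' V)) :
    topologicalKrullDim ↥W = topologicalKrullDim ↥V + (n : WithBot ℕ∞) := by
  haveI : LocallyOfFiniteType f := by
    haveI : LocallyOfFiniteType (f ≫ qY) := by rw [hf]; infer_instance
    exact locallyOfFiniteType_of_comp f qY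
  have hrel : Cyc.HasRelDim f n := (Groth.Agent.S11322.result k qX qY f hf n).mp hX
  have hfd : ∀ x' : ↥(pullback f g), FlatMor.fibreDimAt (pullback.snd f g) x' = n := by
    intro x'
    rw [Groth.Agent.Lib.lead.FibreDimBCLocal.fibreDimAt_baseChange f g (pullback.fst f g)
      (pullback.snd f g) (IsPullback.of_hasPullback f g) x']
    exact Groth.Agent.Lib.lead.FibreDimBCLocal.fibreDimAt_eq_of_hasRelDim f n hrel _
  have hTc : IsClosed ((pullback.snd f g).base ⁻¹' V) := hV.preimage (pullback.snd f g).continuous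
  obtain ⟨w, hwT, hwmax, hdim⟩ := component_generic hTc W hW
  rw [hdim]
  obtain ⟨v₀, hv₀⟩ := QuasiSober.sober hVirr hV
  -- the generic point of the component lies over the generic point of `V`
  have hfw : pullback.snd f g w = v₀ := by
    have hsp : v₀ ⤳ pullback.snd f g w := hv₀.specializes hwT
    obtain ⟨w', hw'w, hw'⟩ := Flat.generalizingMap (f := pullback.snd f g) hsp
    have hw'T : w' ∈ (pullback.snd f g).base ⁻¹' V := by
      show pullback.snd f g w' ∈ V
      rw [hw']
      exact hv₀.mem
    rw [← hwmax w' hw'T hw'w]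
    exact hw'
  have hmaxfib : ∀ z' : ↥(pullback f g), pullback.snd f g z' = pullback.snd f g w → z' ⤳ w →
      z' = w := by
    intro z' hz' hz'w
    apply hwmax z' _ hz'w
    show pullback.snd f g z' ∈ V
    rw [hz']
    exact hwT
  have htr := FibreDim.fibreDimAt_of_fibre_max (pullback.snd f g) w hmaxfib
  rw [hfd w] at htr
  rw [dim_closure_eq_add' k qY' (pullback.snd f g) w, hfw, hv₀.def, ← htr]

end Groth.Agent.Lib.Helper24.FlatEq
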